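import Groth.Agent.Vancyc.H263.AffBundle

/-!
# The affine bundle `{∑ a_j y_j = g}` over the locus where the `a_j` generate the unit ideal

* `quotEquiv`: `A[y_0, …, y_m] / (∑ a_j y_j - g) ≃ A[y_1, …, y_m]` if some `a_i` is a unit.
* `isAff_quot`: the corresponding morphism of spectra is affine `m`-space.
* `isAffBundle_quot`: if the `a_j` generate the unit ideal of `A`, then
  `Spec A[y_0, …, y_m] / (∑ a_j y_j - g) ⟶ Spec A` is an affine bundle of rank `m`.
-/

set_option autoImplicit false
universe u

open CategoryTheory CategoryTheory.Limits AlgebraicGeometry Opposite MvPolynomial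

namespace Groth.Agent.Vancyc.H263.LinearFib

open Groth.Agent.Vancyc.H263.AffBundle

variable {A : Type u} [CommRing A] {m : ℕ}

/-- The equation `∑ a_j y_j - g`. -/
noncomputable def eqn (a : Fin (m + 1) → A) (g : A) : MvPolynomial (Fin (m + 1)) A :=
  ∑ j, C (a j) * X j - C g

/-- The coordinate ring of `{∑ a_j y_j = g}`. -/
abbrev Quot (a : Fin (m + 1) → A) (g : A) : Type u :=
  MvPolynomial (Fin (m + 1)) A ⧸ Ideal.span {eqn a g}

section Unit

variable (a : Fin (m + 1) → A) (g : A) (i : Fin (m + 1)) (v : A) (hv : a i * v = 1)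

/-- Solve for `y_i`. -/
noncomputable def solve : MvPolynomial (Fin (m + 1)) A →ₐ[A] MvPolynomial (Fin m) A :=
  aeval (fun j => if h : j = i then C v * (C g - ∑ k, C (a (i.succAbove k)) * X k)
    else X ((Fin.exists_succAbove_eq h).choose))

theorem solve_X_self : solve a g i v (X i) = C v * (C g - ∑ k, C (a (i.succAbove k)) * X k) := by
  simp [solve]

theorem solve_X_succAbove (k : Fin m) : solve a g i v (X (i.succAbove k)) = X k := by
  have h : i.succAbove k ≠ i := Fin.succAbove_ne i k
  have h2 := (Fin.exists_succAbove_eq h).choose_spec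
  simp only [solve, aeval_X, dif_neg h]
  congr 1
  exact Fin.succAbove_right_injective h2

include hv in
theorem solve_eqn : solve a g i v (eqn a g) = 0 := by
  rw [eqn, map_sub, map_sum, Fin.sum_univ_succAbove _ i]
  simp only [map_mul, solve_X_self, solve_X_succAbove, algHom_C, algebraMap_eq]
  rw [← mul_assoc, ← C_mul, hv, C_1, one_mul]
  ring

/-- The inverse. -/
noncomputable def inc : MvPolynomial (Fin m) A →ₐ[A] Quot a g :=
  aeval (fun k => Ideal.Quotient.mk _ (X (i.succAbove k)))

/-- `A[y_0, …, y_m] / (∑ a_j y_j - g) ≃ A[y_1, …, y_m]` if `a_i` is a unit. -/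
noncomputable def quotEquiv : Quot a g ≃ₐ[A] MvPolynomial (Fin m) A :=
  AlgEquiv.ofAlgHom
    (Ideal.Quotient.liftₐ _ (solve a g i v) (by
      intro x hx
      obtain ⟨y, rfl⟩ := Ideal.mem_span_singleton'.mp hx
      rw [map_mul, solve_eqn a g i v hv, mul_zero]))
    (inc a g i)
    (by
      apply MvPolynomial.algHom_ext
      intro k
      simp only [AlgHom.coe_comp, Function.comp_apply, inc, aeval_X, AlgHom.coe_id, id_eq]
      exact solve_X_succAbove a g i v k)
    (by
      apply Ideal.Quotient.algHom_ext
      apply MvPolynomial.algHom_ext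
      intro j
      change (inc a g i) (solve a g i v (X j)) = Ideal.Quotient.mk _ (X j)
      by_cases h : j = i
      · subst h
        rw [solve_X_self]
        have h0 : eqn a g = C (a j) * X j + ∑ k, C (a (j.succAbove k)) * X (j.succAbove k) - C g := by
          rw [eqn, Fin.sum_univ_succAbove _ j]
        have h1 : (Ideal.Quotient.mk (Ideal.span {eqn a g}))
            (C (a j) * X j + ∑ k, C (a (j.succAbove k)) * X (j.succAbove k) - C g) = 0 := by
          rw [← h0]
          exact Ideal.Quotient.eq_zero_iff_mem.mpr (Ideal.mem_span_singleton_self _)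
        simp only [map_mul, map_sub, map_sum, algHom_C, inc, aeval_X]
        have h2 : ∀ x : A, (algebraMap A (Quot a g)) x = Ideal.Quotient.mk (Ideal.span {eqn a g}) (C x) :=
          fun x => rfl
        simp only [h2]
        simp only [map_mul, map_sub, map_add, map_sum] at h1
        have h3 : (Ideal.Quotient.mk (Ideal.span {eqn a g})) (C v) *
            (Ideal.Quotient.mk (Ideal.span {eqn a g})) (C (a j)) = 1 := by
          rw [← map_mul, ← C_mul, mul_comm, hv, C_1, map_one]
        have h4 : (Ideal.Quotient.mk (Ideal.span {eqn a g})) (C g) -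
            ∑ k, (Ideal.Quotient.mk (Ideal.span {eqn a g})) (C (a (j.succAbove k))) *
              (Ideal.Quotient.mk (Ideal.span {eqn a g})) (X (j.succAbove k)) =
            (Ideal.Quotient.mk (Ideal.span {eqn a g})) (C (a j)) *
              (Ideal.Quotient.mk (Ideal.span {eqn a g})) (X j) := by
          linear_combination -h1
        rw [h4, ← mul_assoc, h3, one_mul]
      · obtain ⟨k, rfl⟩ := Fin.exists_succAbove_eq h
        rw [solve_X_succAbove, inc, aeval_X])

end Unit

/-- `A[y_0, …, y_m] / (∑ a_j y_j - g)` is a polynomial ring in `m` variables over `A` if some `a_i` is a unit. -/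
theorem nonempty_quotEquiv (a : Fin (m + 1) → A) (g : A) (i : Fin (m + 1)) (hi : IsUnit (a i)) :
    Nonempty (Quot a g ≃ₐ[A] MvPolynomial (Fin m) A) := by
  obtain ⟨v, hv⟩ := hi.exists_right_inv
  exact ⟨quotEquiv a g i v hv⟩

/-- Spectra of polynomial algebras. -/
theorem isAff_of_algEquiv {B : Type u} [CommRing B] [Algebra A B] (e : B ≃ₐ[A] MvPolynomial (Fin m) A) :
    IsAff m (Spec.map (CommRingCat.ofHom (algebraMap A B))) := by
  let e' : MvPolynomial (ULift.{u} (Fin m)) A ≃ₐ[A] B :=
    (MvPolynomial.renameEquiv A Equiv.ulift).trans e.symm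
  let i1 : Spec (CommRingCat.of B) ≅ Spec (CommRingCat.of (MvPolynomial (ULift.{u} (Fin m)) A)) :=
    Scheme.Spec.mapIso (RingEquiv.toCommRingCatIso e'.toRingEquiv).op
  refine ⟨i1.hom ≫ (AffineSpace.SpecIso (ULift.{u} (Fin m)) (CommRingCat.of A)).inv, inferInstance, ?_⟩
  rw [Category.assoc, AffineSpace.SpecIso_inv_over]
  change Spec.map _ ≫ Spec.map _ = Spec.map _
  rw [← Spec.map_comp]
  congr 1
  ext x
  exact e'.commutes x

theorem isAff_quot (a : Fin (m + 1) → A) (g : A) (i : Fin (m + 1)) (hi : IsUnit (a i)) :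
    IsAff m (Spec.map (CommRingCat.ofHom (algebraMap A (Quot a g)))) := by
  obtain ⟨e⟩ := nonempty_quotEquiv a g i hi
  exact isAff_of_algEquiv e

end Groth.Agent.Vancyc.H263.LinearFib
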