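import Groth.Agent.Vancyc.H263.PunctAff
import Groth.Agent.Vancyc.H263.LinearFib
import Groth.Agent.Vancyc.H686.GeoR
import Mathlib.RingTheory.MvPolynomial.Ideal

/-!
# Cohomology of the standard punctured affine space over a separably closed field
-/

set_option autoImplicit false
universe u
open CategoryTheory CategoryTheory.Limits AlgebraicGeometry Opposite

namespace Groth.Agent.Vancyc.H263.PunctStd

open Groth.Agent.Sga4B Groth.Agent.Sga4B.PureStmt Groth.Agent.Vancyc.H263.AffBundle
  Groth.Agent.Vancyc.H686.GeoR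

/-- The zero section of affine space. -/
noncomputable abbrev zero (n : ℕ) (R : Type u) [CommRing R] : Spec (CommRingCat.of R) ⟶ A n R :=
  Spec.map (CommRingCat.ofHom (MvPolynomial.constantCoeff : MvPolynomial (Fin n) R →+* R))

theorem zero_str (n : ℕ) (R : Type u) [CommRing R] : zero n R ≫ str n R = 𝟙 _ := by
  rw [← Spec.map_comp, ← CommRingCat.ofHom_comp]
  have : (MvPolynomial.constantCoeff : MvPolynomial (Fin n) R →+* R).comp MvPolynomial.C =
      RingHom.id R := by
    ext r
    simp
  rw [this]
  exact Spec.map_id _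

/-- The complement of the zero section. -/
theorem range_punct (n : ℕ) (R : Type u) [CommRing R] :
    Set.range (punct n R).ι = (Set.range (zero n R))ᶜ := by
  rw [Scheme.Opens.range_ι]
  have hs : Function.Surjective (MvPolynomial.constantCoeff : MvPolynomial (Fin n) R →+* R) :=
    fun a => ⟨MvPolynomial.C a, MvPolynomial.constantCoeff_C _ a⟩
  have h1 : Set.range (zero n R) = PrimeSpectrum.zeroLocus
      (RingHom.ker (MvPolynomial.constantCoeff : MvPolynomial (Fin n) R →+* R)) :=
    _root_.range_comap_of_surjective _ _ hs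
  rw [h1]
  ext x
  rw [SetLike.mem_coe, mem_punct, Set.mem_compl_iff, ← not_iff_not, not_not]
  push Not
  constructor
  · intro h
    change RingHom.ker (MvPolynomial.constantCoeff : MvPolynomial (Fin n) R →+* R) ≤ x.asIdeal
    intro f hf
    have h2 : f ∈ Ideal.span (Set.range (MvPolynomial.X : Fin n → MvPolynomial (Fin n) R)) := by
      rw [← Set.image_univ, MvPolynomial.mem_ideal_span_X_image]
      intro m hm
      by_contra hne
      push Not at hne
      have h3 : m = 0 := Finsupp.ext fun i => hne i (Set.mem_univ i)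
      rw [h3, MvPolynomial.mem_support_iff] at hm
      exact hm hf
    refine Ideal.span_le.2 ?_ h2
    rintro _ ⟨i, rfl⟩
    by_contra hne
    exact h i hne
  · intro h i
    rw [mem_bo, not_not]
    exact h (MvPolynomial.constantCoeff_X _ i)

/-- **Cohomology of the complement of the origin in affine space** (relative to `StmtLine`). -/
theorem punct_std {Ω : Type u} [Field Ω] [IsSepClosed Ω] {N : ℕ} (hL : StmtLine.{u} N)
    (hN : (N : Ω) ≠ 0) (m : ℕ) (hm : 0 < m) :
    (∀ q : ℕ, q ≠ 0 → q ≠ 2 * m - 1 → Subsingleton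
        (EtCoh.H (punct m Ω : Scheme.{u}) (EtCoh.const (punct m Ω : Scheme.{u}) (ZMod N)) q)) ∧
      Nonempty (EtCoh.H (punct m Ω : Scheme.{u}) (EtCoh.const (punct m Ω : Scheme.{u}) (ZMod N))
        (2 * m - 1) ≃+ ZMod N) ∧
      Nonempty (EtCoh.H (punct m Ω : Scheme.{u}) (EtCoh.const (punct m Ω : Scheme.{u}) (ZMod N)) 0
        ≃+ ZMod N) :=
  PunctAff.punct_of_stmtLine (p := str m Ω) hL hN (LinearFib.isAff_of_algEquiv AlgEquiv.refl) hm
    (zero m Ω) (zero_str m Ω) (punct m Ω).ι (range_punct m Ω)

end Groth.Agent.Vancyc.H263.PunctStd
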