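import Groth.Agent.Vancyc.H263.PunctStd
import Groth.Agent.Sga4B.PurityMainB

/-!
# Cohomology of a punctured affine space over a separably closed field (unconditional form)
-/

set_option autoImplicit false
universe u
open CategoryTheory CategoryTheory.Limits AlgebraicGeometry Opposite

namespace Groth.Agent.Vancyc.H263.PunctMain

open Groth.Agent.Vancyc.H263.AffBundle Groth.Agent.Vancyc.H263.PunctAff
  Groth.Agent.Vancyc.H686.GeoR

variable {Ω : Type u} [Field Ω] [IsSepClosed Ω]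

/-- **Cohomology of affine space minus a rational point**, over a separably closed field. -/
theorem punct {B : Scheme.{u}} {m : ℕ} {p : B ⟶ Spec (CommRingCat.of Ω)} {N : ℕ}
    (hN : (N : Ω) ≠ 0) (hp : IsAff m p) (hm : 0 < m) (i : Spec (CommRingCat.of Ω) ⟶ B)
    (hi : i ≫ p = 𝟙 _) {U : Scheme.{u}} (j : U ⟶ B) [IsOpenImmersion j]
    (hj : Set.range j = (Set.range i)ᶜ) :
    (∀ q : ℕ, q ≠ 0 → q ≠ 2 * m - 1 → Subsingleton (EtCoh.H U (EtCoh.const U (ZMod N)) q)) ∧
      Nonempty (EtCoh.H U (EtCoh.const U (ZMod N)) (2 * m - 1) ≃+ ZMod N) ∧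
      Nonempty (EtCoh.H U (EtCoh.const U (ZMod N)) 0 ≃+ ZMod N) :=
  punct_of_stmtLine (Sga4B.PurityMainB.stmtLine N) hN hp hm i hi j hj

/-- **Cohomology of the standard punctured affine space**, over a separably closed field. -/
theorem punct_std {N : ℕ} (hN : (N : Ω) ≠ 0) (m : ℕ) (hm : 0 < m) :
    (∀ q : ℕ, q ≠ 0 → q ≠ 2 * m - 1 → Subsingleton
        (EtCoh.H (Vancyc.H686.GeoR.punct m Ω : Scheme.{u})
          (EtCoh.const (Vancyc.H686.GeoR.punct m Ω : Scheme.{u}) (ZMod N)) q)) ∧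
      Nonempty (EtCoh.H (Vancyc.H686.GeoR.punct m Ω : Scheme.{u})
          (EtCoh.const (Vancyc.H686.GeoR.punct m Ω : Scheme.{u}) (ZMod N)) (2 * m - 1) ≃+ ZMod N) ∧
      Nonempty (EtCoh.H (Vancyc.H686.GeoR.punct m Ω : Scheme.{u})
          (EtCoh.const (Vancyc.H686.GeoR.punct m Ω : Scheme.{u}) (ZMod N)) 0 ≃+ ZMod N) :=
  PunctStd.punct_std (Sga4B.PurityMainB.stmtLine N) hN m hm

end Groth.Agent.Vancyc.H263.PunctMain
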