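import Groth.Agent.Sga4B.LineAff

/-!
# Affine bundles are acyclic

`IsAff m p`: `p : E ⟶ B` is isomorphic over `B` to affine `m`-space.
`IsAffBundle m p`: Zariski-locally on `B`, `p` is affine `m`-space.
`IsAffBundle.acyc`: an affine bundle is acyclic for sheaves killed by `n`, `n` invertible on the base.
-/

set_option autoImplicit false
universe u

open CategoryTheory CategoryTheory.Limits AlgebraicGeometry Opposite

namespace Groth.Agent.Vancyc.H263.AffBundle

open Groth.Agent.Sga4B Groth.Agent.Sga4B.AcycMor Groth.Agent.Sga4B.Line Groth.Agent.Sga4B.LineAff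

variable {E B : Scheme.{u}}

/-- `p : E ⟶ B` is isomorphic over `B` to affine `m`-space. -/
def IsAff (m : ℕ) (p : E ⟶ B) : Prop :=
  ∃ e : E ⟶ 𝔸(ULift.{u} (Fin m); B), IsIso e ∧ e ≫ (𝔸(ULift.{u} (Fin m); B) ↘ B) = p

theorem isAff_self (m : ℕ) (B : Scheme.{u}) : IsAff m (𝔸(ULift.{u} (Fin m); B) ↘ B) :=
  ⟨𝟙 _, inferInstance, Category.id_comp _⟩

theorem IsAff.comp_iso {m : ℕ} {p : E ⟶ B} (h : IsAff m p) {E' : Scheme.{u}} (e : E' ⟶ E) [IsIso e]
    {p' : E' ⟶ B} (w : e ≫ p = p') : IsAff m p' := by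
  obtain ⟨e', _, rfl⟩ := h
  exact ⟨e ≫ e', inferInstance, by rw [Category.assoc, w]⟩

/-- Base change of affine space is affine space. -/
theorem IsAff.of_isPullback {m : ℕ} {p : E ⟶ B} (hp : IsAff m p) {E' B' : Scheme.{u}} {q : E' ⟶ E}
    {p' : E' ⟶ B'} {y : B' ⟶ B} (h : IsPullback q p' p y) : IsAff m p' := by
  obtain ⟨e, _, rfl⟩ := hp
  have h1 : IsPullback (q ≫ e) p' (𝔸(ULift.{u} (Fin m); B) ↘ B) y := by
    have h2 : IsPullback e (e ≫ (𝔸(ULift.{u} (Fin m); B) ↘ B)) (𝔸(ULift.{u} (Fin m); B) ↘ B) (𝟙 B) :=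
      IsPullback.of_horiz_isIso ⟨by simp⟩
    have h3 := h.flip.paste_vert h2.flip
    simpa using h3.flip
  have h4 := AffineSpace.isPullback_map (n := ULift.{u} (Fin m)) y
  refine ⟨(h1.isoIsPullback _ _ h4).hom, inferInstance, ?_⟩
  exact IsPullback.isoIsPullback_hom_snd _ _ _ _

theorem IsAff.smooth {m : ℕ} {p : E ⟶ B} (h : IsAff m p) : Smooth p := by
  obtain ⟨e, _, rfl⟩ := h
  infer_instance

theorem IsAff.isAffineHom {m : ℕ} {p : E ⟶ B} (h : IsAff m p) : IsAffineHom p := by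
  obtain ⟨e, _, rfl⟩ := h
  infer_instance

theorem IsAff.geometricallyIrreducible {m : ℕ} {p : E ⟶ B} (h : IsAff m p) : GeometricallyIrreducible p := by
  obtain ⟨e, _, rfl⟩ := h
  rw [MorphismProperty.cancel_left_of_respectsIso (P := @GeometricallyIrreducible)]
  infer_instance

/-- Affine spaces are acyclic. -/
theorem IsAff.acyc {m : ℕ} {p : E ⟶ B} (h : IsAff m p) {n : ℕ} (hn : IsUnit (n : Γ(B, ⊤))) : Acyc n p := by
  obtain ⟨e, _, he⟩ := h
  exact (acyc_affineSpace n (fun g hg h => acyc_line hg h) B hn m).of_iso e he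

/-- `p : E ⟶ B` is Zariski-locally on `B` isomorphic to affine `m`-space. -/
def IsAffBundle (m : ℕ) (p : E ⟶ B) : Prop :=
  ∀ b : B, ∃ (V E' : Scheme.{u}) (j : V ⟶ B) (j' : E' ⟶ E) (p' : E' ⟶ V), IsOpenImmersion j ∧
    b ∈ Set.range j ∧ IsPullback j' p' p j ∧ IsAff m p'

theorem IsAff.isAffBundle {m : ℕ} {p : E ⟶ B} (h : IsAff m p) : IsAffBundle m p := fun b =>
  ⟨B, E, 𝟙 B, 𝟙 E, p, inferInstance, ⟨b, rfl⟩, IsPullback.of_horiz_isIso ⟨by simp⟩, h⟩

/-- The criterion over an open cover of the base. -/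
theorem isAffBundle_of_opens {m : ℕ} {p : E ⟶ B} {ι : Type*} (V : ι → B.Opens) (hV : ⨆ i, V i = ⊤)
    (h : ∀ i, IsAff m (p ∣_ V i)) : IsAffBundle m p := by
  intro b
  obtain ⟨i, hi⟩ := TopologicalSpace.Opens.mem_iSup.mp (hV.ge (Set.mem_univ b))
  exact ⟨_, _, (V i).ι, (p ⁻¹ᵁ V i).ι, p ∣_ V i, inferInstance, by simpa using hi,
    (isPullback_morphismRestrict p (V i)).flip, h i⟩

theorem IsAffBundle.comp_iso {m : ℕ} {p : E ⟶ B} (h : IsAffBundle m p) {E₁ : Scheme.{u}} (e : E₁ ⟶ E) [IsIso e]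
    {p₁ : E₁ ⟶ B} (w : e ≫ p = p₁) : IsAffBundle m p₁ := by
  intro b
  obtain ⟨V, E', j, j', p', hj, hb, sq, ha⟩ := h b
  refine ⟨V, E', j, j' ≫ inv e, p', hj, hb, ?_, ha⟩
  have h2 : IsPullback (inv e) p p₁ (𝟙 B) := IsPullback.of_horiz_isIso ⟨by simp [← w]⟩
  have h3 := sq.flip.paste_vert h2.flip
  simpa using h3.flip

/-- Base change of an affine bundle is an affine bundle. -/
theorem IsAffBundle.of_isPullback {m : ℕ} {p : E ⟶ B} (hp : IsAffBundle m p) {E₁ B₁ : Scheme.{u}} {q : E₁ ⟶ E}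
    {p₁ : E₁ ⟶ B₁} {y : B₁ ⟶ B} (h : IsPullback q p₁ p y) : IsAffBundle m p₁ := by
  intro b
  obtain ⟨V, E', j, j', p', hj, hb, sq, ha⟩ := hp (y b)
  have hb' : b ∈ Set.range (pullback.fst y j) := by
    rw [IsOpenImmersion.range_pullbackFst]
    exact hb
  -- the fibre product of `E₁` with the open
  have sq1 : IsPullback (pullback.fst p₁ (pullback.fst y j)) (pullback.snd p₁ (pullback.fst y j)) p₁
      (pullback.fst y j) := IsPullback.of_hasPullback _ _
  have sq2 : IsPullback (pullback.fst p₁ (pullback.fst y j) ≫ q) (pullback.snd p₁ (pullback.fst y j)) p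
      (pullback.fst y j ≫ y) := (sq1.flip.paste_vert h.flip).flip
  have sq3 : IsPullback (pullback.fst y j) (pullback.snd y j) y j := IsPullback.of_hasPullback _ _
  rw [pullback.condition] at sq2
  -- factor through `E'`
  have sq4 : IsPullback (sq.lift (pullback.fst p₁ (pullback.fst y j) ≫ q)
      (pullback.snd p₁ (pullback.fst y j) ≫ pullback.snd y j) (by
        rw [Category.assoc]
        exact sq2.w)) (pullback.snd p₁ (pullback.fst y j)) p' (pullback.snd y j) := by
    refine IsPullback.of_right (h₁₂ := j') (h₂₂ := j) (v₁₃ := p) ?_ (by simp) sq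
    simpa using sq2
  exact ⟨_, _, pullback.fst y j, pullback.fst p₁ (pullback.fst y j), pullback.snd p₁ (pullback.fst y j),
    inferInstance, hb', sq1, ha.of_isPullback sq4⟩

/-- The open cover of the base of an affine bundle. -/
noncomputable def IsAffBundle.cover {m : ℕ} {p : E ⟶ B} (h : IsAffBundle m p) : B.OpenCover where
  I₀ := B
  X b := (h b).choose
  f b := (h b).choose_spec.choose_spec.choose
  mem₀ := by
    rw [Scheme.presieve₀_mem_precoverage_iff]
    refine ⟨fun b => ?_, fun b => (h b).choose_spec.choose_spec.choose_spec.choose_spec.choose_spec.1⟩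
    exact ⟨b, (h b).choose_spec.choose_spec.choose_spec.choose_spec.choose_spec.2.1⟩

theorem IsAffBundle.cover_snd {m : ℕ} {p : E ⟶ B} (h : IsAffBundle m p) (b : B) :
    IsAff m (pullback.snd p (h.cover.f b)) := by
  have h1 := (h b).choose_spec.choose_spec.choose_spec.choose_spec.choose_spec
  exact h1.2.2.2.comp_iso h1.2.2.1.isoPullback.inv h1.2.2.1.isoPullback_inv_snd

theorem IsAffBundle.smooth {m : ℕ} {p : E ⟶ B} (h : IsAffBundle m p) : Smooth p :=
  (IsZariskiLocalAtTarget.iff_of_openCover (P := @Smooth) h.cover).mpr fun b => (h.cover_snd b).smooth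

theorem IsAffBundle.isAffineHom {m : ℕ} {p : E ⟶ B} (h : IsAffBundle m p) : IsAffineHom p :=
  (IsZariskiLocalAtTarget.iff_of_openCover (P := @IsAffineHom) h.cover).mpr fun b => (h.cover_snd b).isAffineHom

/-- Over a local scheme, an affine bundle is an affine space. -/
theorem IsAffBundle.isAff_of_isLocalRing {m : ℕ} {R : Type u} [CommRing R] [IsLocalRing R]
    {p : E ⟶ Spec (CommRingCat.of R)} (h : IsAffBundle m p) : IsAff m p := by
  obtain ⟨V, E', j, j', p', hj, hb, sq, ha⟩ := h (IsLocalRing.closedPoint R)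
  have hsurj : Set.range j = Set.univ := by
    rw [Set.eq_univ_iff_forall]
    intro x
    exact (IsLocalRing.specializes_closedPoint x).mem_open j.isOpenEmbedding.isOpen_range hb
  have hs : Surjective j := ⟨Set.range_eq_univ.mp hsurj⟩
  have hi : IsIso j := (isIso_iff_isOpenImmersion_and_epi_base j).2 ⟨hj, (TopCat.epi_iff_surjective _).2 hs.surj⟩
  have hi' : IsIso j' := sq.isIso_fst_of_isIso
  refine ha.of_isPullback (q := inv j') (y := inv j) (IsPullback.of_horiz_isIso ⟨?_⟩)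
  rw [IsIso.inv_comp_eq, ← Category.assoc, IsIso.eq_comp_inv, sq.w]

theorem IsAffBundle.geometricallyIrreducible {m : ℕ} {p : E ⟶ B} (h : IsAffBundle m p) :
    GeometricallyIrreducible p := by
  refine ⟨fun K _ y Z fst snd h' => ?_⟩
  obtain ⟨e, he, -⟩ := (h.of_isPullback h').isAff_of_isLocalRing
  have : IrreducibleSpace ↥(𝔸(ULift.{u} (Fin m); Spec (CommRingCat.of K))) := inferInstance
  exact (asIso e).schemeIsoToHomeo.symm.surjective.irreducibleSpace (asIso e).schemeIsoToHomeo.symm.continuous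

/-- **Affine bundles are acyclic** for sheaves killed by an integer invertible on the base. -/
theorem IsAffBundle.acyc {m : ℕ} {p : E ⟶ B} (h : IsAffBundle m p) {n : ℕ} (hn : IsUnit (n : Γ(B, ⊤))) :
    Acyc n p := by
  have := h.smooth
  have := h.isAffineHom
  have := h.geometricallyIrreducible
  intro F hF
  refine ⟨Line.isIso_unit p F, fun q hq => ?_⟩
  refine Groth.Agent.EtpbcB.PBCVan.isZero_Rpush_of_van p ((EtCoh.pull p).obj F) q
    (fun s R _ _ _ _ _ _ _ => ?_)
  let t := Hens2.specOf B s R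
  have h1 : IsUnit (n : Γ(Spec (CommRingCat.of R), ⊤)) := by
    have h1 := hn.map t.appTop.hom
    rwa [map_natCast] at h1
  have h2 : Acyc n (pullback.snd p t) :=
    (h.of_isPullback (IsPullback.of_hasPullback p t)).isAff_of_isLocalRing.acyc h1
  let F' := (EtCoh.pull t).obj F
  have hF' : EtCoh.KilledBy n F' := Groth.Agent.EtpbcB.NKillEt.killedBy_pull t hF
  have h3 : Subsingleton (EtCoh.H (Spec (CommRingCat.of R)) F' q) := by
    refine Groth.Agent.EtpbcB.PBCVan.subsingleton_H_of_isZero_Rpush R (𝟙 _) F' q ?_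
    obtain ⟨q, rfl⟩ : ∃ r, q = r + 1 := ⟨q - 1, by omega⟩
    exact Groth.Agent.Etcore.NormalAcyclic.isZero_rightDerived_of_exact _ _ _
  have : PreservesFiniteLimits (EtCoh.pull (pullback.snd p t)) := Groth.Agent.S0101.result _
  have h4 : Subsingleton (EtCoh.H (pullback p t) ((EtCoh.pull (pullback.snd p t)).obj F') q) :=
    (h2.Hpull_bijective F' hF' q).2.subsingleton
  have h5 : EtCoh.H (pullback p t) ((EtCoh.pull (pullback.fst p t)).obj ((EtCoh.pull p).obj F)) q ≃
      EtCoh.H (pullback p t) ((EtCoh.pull (pullback.snd p t)).obj F') q :=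
    (Groth.Agent.EtpbcB.IsoTransport.HPullComp (pullback.fst p t) p _ rfl F q).symm.toEquiv.trans
      (Groth.Agent.EtpbcB.IsoTransport.HPullComp (pullback.snd p t) t _ pullback.condition.symm F q).toEquiv
  exact h5.subsingleton

end Groth.Agent.Vancyc.H263.AffBundle
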