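import Groth.Agent.Sga4B.PureFinal
import Groth.Agent.Sga4B.PureComp
import Groth.Agent.Sga4B.TwoRowEt
import Groth.Agent.Sga4B.ClosedSupp
import Groth.Agent.Sga4B.PointConst
import Groth.Agent.Sga4B.HTools
import Groth.Agent.Etrest.SHPoint
import Groth.Agent.Etrest.FppfUnit

/-!
# Cohomology of the complement of a rational point in an acyclic smooth scheme
-/

set_option autoImplicit false
universe u
open CategoryTheory CategoryTheory.Limits AlgebraicGeometry Opposite

namespace Groth.Agent.Vancyc.H263.Punct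

open Groth.Agent.Sga4B Groth.Agent.Sga4B.Pure Groth.Agent.Sga4B.PureStmt
  Groth.Agent.Sga4B.LocCohLocal

section Point

variable {Ω : Type u} [Field Ω] [IsSepClosed Ω]

/-- On the spectrum of a separably closed field, locally isomorphic sheaves are isomorphic. -/
theorem nonempty_iso_of_locIso {F G : EtCoh.Ab (Spec (CommRingCat.of Ω))} (h : LocIso F G) :
    Nonempty (F ≅ G) := by
  obtain ⟨V, v, hv, y, hy, ⟨e⟩⟩ := (locIso_iff_pull F G).1 h (default : Spec (CommRingCat.of Ω))
  obtain ⟨s, hs, hs'⟩ := Scheme.exists_fac_of_etale_of_isSepClosed v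
    (𝟙 (Spec (CommRingCat.of Ω))) y (Subsingleton.elim (α := Spec (CommRingCat.of Ω)) _ _)
  have e1 : EtCoh.pull v ⋙ EtCoh.pull s ≅ 𝟭 _ :=
    EtpbcA.PullFLC.pullComp s v ≪≫ EtpbcA.PullFLC.pullCongr hs ≪≫ Etrest.FppfUnit.pullId _
  exact ⟨(e1.app F).symm ≪≫ (EtCoh.pull s).mapIso e ≪≫ e1.app G⟩

end Point

/-- The zeroth right derived direct image. -/
noncomputable def Rpush0 {X Y : Scheme.{u}} (f : X ⟶ Y) (G : EtCoh.Ab X) :
    (EtCoh.Rpush f 0).obj G ≅ (EtCoh.push f).obj G :=
  (Functor.rightDerivedZeroIsoSelf (EtCoh.push f)).app G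

section Gysin

variable {Ω : Type u} [Field Ω] {N : ℕ}
  {X U : Scheme.{u}} (f : X ⟶ Spec (CommRingCat.of Ω)) (i : Spec (CommRingCat.of Ω) ⟶ X)
  [IsClosedImmersion i] (w : i ≫ f = 𝟙 _) (c : ℕ)
  (j : U ⟶ X) [IsOpenImmersion j]

include w in
/-- Purity of a rational point. -/
theorem pureF_point [SmoothOfRelativeDimension c f] (hL : StmtLine.{u} N) (hN : (N : Ω) ≠ 0)
    (hU : Set.range j = (Set.range i)ᶜ) : PureF N c j i := by
  have h1 : SmoothOfRelativeDimension (0 + c) f := by rw [zero_add]; infer_instance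
  have h2 : IsUnit (N : Γ(X, ⊤)) := by
    have h3 : IsUnit (N : Ω) := IsUnit.mk0 _ hN
    have h4 := h3.map ((Scheme.ΓSpecIso (CommRingCat.of Ω)).inv ≫ f.appTop).hom
    rwa [map_natCast] at h4
  exact PureTower.pureF_smoothPair hL (PureComp.stmtComp N) f (𝟙 _) i 0 c w j hU h2

/-- Vanishing sheaves have no cohomology. -/
theorem subsingleton_H_of_isZero {F : EtCoh.Ab X} (h : IsZero F) (q : ℕ) :
    Subsingleton (EtCoh.H X F q) := Sheaf.subsingleton_H_of_isZero h q

/-- The sheaf supported at a point has no higher cohomology. -/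
theorem subsingleton_H_push [IsSepClosed Ω] (G : EtCoh.Ab (Spec (CommRingCat.of Ω))) (q : ℕ) (hq : 0 < q) :
    Subsingleton (EtCoh.H X ((EtCoh.push i).obj G) q) := by
  have h1 : PreservesFiniteColimits (EtCoh.push i) := ClosedSupp.preservesFiniteColimits_push i
  have h2 := Etrest.SHPoint.subsingleton_H_of_sepClosed Ω G q hq
  exact (HTools.HPushExact i G q).toEquiv.subsingleton

/-- Degree zero cohomology of a skyscraper sheaf. -/
theorem nonempty_H0_push (M : Type) [AddCommGroup M] :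
    Nonempty (EtCoh.H X ((EtCoh.push i).obj (EtCoh.const _ M)) 0 ≃+ M) := by
  have h1 : PreservesFiniteColimits (EtCoh.push i) := ClosedSupp.preservesFiniteColimits_push i
  obtain ⟨e⟩ := Etrest.SHPoint.nonempty_H0_const (Spec (CommRingCat.of Ω)) M
  exact ⟨(HTools.HPushExact i _ 0).trans e⟩

/-- A sheaf on `X` locally isomorphic to `i_* i^*` of a constant sheaf and supported on `i` is
`i_*` of the constant sheaf. -/
theorem nonempty_iso_push_const [IsSepClosed Ω] (M : Type) [AddCommGroup M] (L : EtCoh.Ab X)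
    (hu : IsIso ((EtCoh.pullPushAdj i).unit.app L))
    (h : LocIso L ((EtCoh.pull i ⋙ EtCoh.push i).obj (EtCoh.const X M))) :
    Nonempty (L ≅ (EtCoh.push i).obj (EtCoh.const _ M)) := by
  obtain ⟨hf, hff⟩ := S0067.result i
  have h1 := LocIso.pull h i
  have h2 : IsIso (EtCoh.pullPushAdj i).counit := inferInstance
  obtain ⟨e⟩ := nonempty_iso_of_locIso h1
  have e3 : (EtCoh.pull i).obj L ≅ EtCoh.const _ M :=
    e ≪≫ (asIso (EtCoh.pullPushAdj i).counit).app ((EtCoh.pull i).obj (EtCoh.const X M)) ≪≫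
      EtCore.pullConst i M
  exact ⟨asIso ((EtCoh.pullPushAdj i).unit.app L) ≪≫ (EtCoh.push i).mapIso e3⟩

include w in
/-- The direct images of a constant sheaf along the complement of a rational point. -/
theorem rpush_point [IsSepClosed Ω] [SmoothOfRelativeDimension c f] (hc : 0 < c)
    (hL : StmtLine.{u} N) (hN : (N : Ω) ≠ 0) (hU : Set.range j = (Set.range i)ᶜ) :
    Nonempty ((EtCoh.Rpush j 0).obj ((EtCoh.pull j).obj (EtCoh.const X (ZMod N))) ≅
        EtCoh.const X (ZMod N)) ∧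
      Nonempty ((EtCoh.Rpush j (2 * c - 1)).obj ((EtCoh.pull j).obj (EtCoh.const X (ZMod N))) ≅
        (EtCoh.push i).obj (EtCoh.const _ (ZMod N))) ∧
      ∀ q : ℕ, q ≠ 0 → q ≠ 2 * c - 1 →
        IsZero ((EtCoh.Rpush j q).obj ((EtCoh.pull j).obj (EtCoh.const X (ZMod N)))) := by
  have hN0 : NeZero N := ⟨fun h => hN (by rw [h, Nat.cast_zero])⟩
  have hA := pureF_point f i w c j hL hN hU (EtCoh.const X (ZMod N))
    (Etrest.ConstBasic.isFiniteLocallyConstant_const X (ZMod N))
    (Etrest.ConstBasic.killedBy_const X (ZMod N) N (fun m => by simp))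
  refine ⟨?_, ?_, ?_⟩
  · have h1 : IsIso ((EtCoh.pullPushAdj j).unit.app (EtCoh.const X (ZMod N))) :=
      SuppFun.isIso_unit j _ (hA.1 0 (by omega)) (hA.1 1 (by omega))
    exact ⟨Rpush0 j _ ≪≫ (asIso ((EtCoh.pullPushAdj j).unit.app (EtCoh.const X (ZMod N)))).symm⟩
  · obtain ⟨e⟩ := SuppFun.nonempty_locCoh_iso j (2 * c - 1) (by omega) (EtCoh.const X (ZMod N))
    have hc2 : 2 * c - 1 + 1 = 2 * c := by omega
    rw [hc2] at e
    have hu := ClosedSupp.isIso_unit_of_isZero i j hU _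
      (ClosedSupp.isZero_pull_locCoh j (2 * c) (EtCoh.const X (ZMod N)))
    obtain ⟨e2⟩ := nonempty_iso_push_const i (ZMod N) _ hu hA.2
    exact ⟨e.symm ≪≫ e2⟩
  · intro q hq hq'
    exact SuppFun.isZero_Rpush j q (by omega) _ (hA.1 (q + 1) (by omega))

include w in
/-- Cohomology of the complement of a rational point. -/
theorem gysin [IsSepClosed Ω] [SmoothOfRelativeDimension c f] (hc : 0 < c)
    (hL : StmtLine.{u} N) (hN : (N : Ω) ≠ 0) (hU : Set.range j = (Set.range i)ᶜ)
    (hX : ∀ q : ℕ, 0 < q → Subsingleton (EtCoh.H X (EtCoh.const X (ZMod N)) q)) :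
    (∀ q : ℕ, q ≠ 0 → q ≠ 2 * c - 1 → Subsingleton (EtCoh.H U (EtCoh.const U (ZMod N)) q)) ∧
      Nonempty (EtCoh.H U (EtCoh.const U (ZMod N)) (2 * c - 1) ≃+ ZMod N) := by
  obtain ⟨⟨e0⟩, ⟨e1⟩, hz⟩ := rpush_point f i w c j hc hL hN hU
  have hb : ∀ q, 2 * c - 1 < q →
      IsZero ((EtCoh.Rpush j q).obj ((EtCoh.pull j).obj (EtCoh.const X (ZMod N)))) :=
    fun q hq => hz q (by omega) (by omega)
  refine ⟨fun n hn hn' => ?_, ?_⟩
  · refine HTools.subsingleton_H_of_iso (EtCore.pullConst j (ZMod N)) n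
      (TwoRowEt.subsingleton_H j (2 * c - 1) n _ hb fun q k hq hk => ?_)
    by_cases h0 : q = 0
    · subst h0
      exact HTools.subsingleton_H_of_iso e0.symm k (hX k (by omega))
    · by_cases h1 : q = 2 * c - 1
      · subst h1
        exact HTools.subsingleton_H_of_iso e1.symm k (subsingleton_H_push i _ k (by omega))
      · exact subsingleton_H_of_isZero (hz q h0 h1) k
  · have hbij := TwoRowEt.highH_bijective j (2 * c - 1) (2 * c - 1) 0 (zero_add _)
      ((EtCoh.pull j).obj (EtCoh.const X (ZMod N))) hb (fun q k hq hk => by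
        by_cases h0 : q = 0
        · subst h0
          exact HTools.subsingleton_H_of_iso e0.symm k (hX k (by omega))
        · exact subsingleton_H_of_isZero (hz q h0 (by omega)) k)
    obtain ⟨e2⟩ := nonempty_H0_push i (ZMod N)
    exact ⟨(HTools.HCongr (EtCore.pullConst j (ZMod N)) (2 * c - 1)).symm.trans
      ((AddEquiv.ofBijective _ hbij).trans ((HTools.HCongr e1 0).trans e2))⟩

end Gysin

end Groth.Agent.Vancyc.H263.Punct
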