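import Groth.Agent.Vancyc.H263.Punct
import Groth.Agent.Vancyc.H263.AffBundle
import Groth.Agent.FlatB.AffSpaceSmooth

/-!
# Cohomology of punctured affine space over a separably closed field
-/

set_option autoImplicit false
universe u
open CategoryTheory CategoryTheory.Limits AlgebraicGeometry Opposite

namespace Groth.Agent.Vancyc.H263.PunctAff

open Groth.Agent.Sga4B Groth.Agent.Sga4B.PureStmt Groth.Agent.Vancyc.H263.AffBundle
  Groth.Agent.Vancyc.H263.Punct

theorem isStandardSmooth_ulift (m : ℕ) (R : Type u) [CommRing R] :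
    (algebraMap R (MvPolynomial (ULift.{u} (Fin m)) R)).IsStandardSmoothOfRelativeDimension m := by
  have h : (algebraMap R (MvPolynomial (Fin m) R)).IsStandardSmoothOfRelativeDimension m := by
    rw [RingHom.isStandardSmoothOfRelativeDimension_algebraMap]
    exact FlatB.AffSpaceSmooth.isStandardSmoothOfRelativeDimension R m
  have h2 := RingHom.isStandardSmoothOfRelativeDimension_respectsIso.1 _
    (MvPolynomial.renameEquiv R Equiv.ulift.{u, 0}.symm).toRingEquiv h
  have h3 : ((MvPolynomial.renameEquiv R (Equiv.ulift.{u, 0} (α := Fin m)).symm).toRingEquiv.toRingHom.comp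
      (algebraMap R (MvPolynomial (Fin m) R))) = algebraMap R (MvPolynomial (ULift.{u} (Fin m)) R) := by
    ext r
    simp
  rw [← h3]
  exact h2

/-- Affine `m`-space is smooth of relative dimension `m`. -/
theorem smoothOfRelativeDimension_affineSpace (m : ℕ) (S : Scheme.{u}) :
    SmoothOfRelativeDimension m (𝔸(ULift.{u} (Fin m); S) ↘ S) := by
  wlog hS : ∃ R, S = Spec R
  · refine (IsZariskiLocalAtTarget.iff_of_openCover (P := @SmoothOfRelativeDimension m) S.affineCover).mpr ?_
    intro i
    have := this m (S.affineCover.X i) ⟨_, rfl⟩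
    rwa [← (AffineSpace.isPullback_map (n := ULift.{u} (Fin m)) (S.affineCover.f i)).isoPullback_hom_snd,
      MorphismProperty.cancel_left_of_respectsIso (P := @SmoothOfRelativeDimension m)] at this
  obtain ⟨R, rfl⟩ := hS
  rw [← MorphismProperty.cancel_left_of_respectsIso (P := @SmoothOfRelativeDimension m)
    (AffineSpace.SpecIso (ULift.{u} (Fin m)) R).inv, AffineSpace.SpecIso_inv_over]
  rw [HasRingHomProperty.Spec_iff (P := @SmoothOfRelativeDimension m)]
  exact RingHom.locally_of RingHom.isStandardSmoothOfRelativeDimension_respectsIso _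
    (isStandardSmooth_ulift m R)

theorem smoothOfRelativeDimension_of_isAff {m : ℕ}
    {E B : Scheme.{u}} {p : E ⟶ B} (h : IsAff m p) : SmoothOfRelativeDimension m p := by
  obtain ⟨e, _, rfl⟩ := h
  have := smoothOfRelativeDimension_affineSpace m B
  rwa [MorphismProperty.cancel_left_of_respectsIso (P := @SmoothOfRelativeDimension m)]

section

variable {Ω : Type u} [Field Ω] [IsSepClosed Ω] {N : ℕ} {X U : Scheme.{u}}
  {p : X ⟶ Spec (CommRingCat.of Ω)} {c : ℕ}

/-- Affine space over a separably closed field has no higher cohomology. -/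
theorem subsingleton_H_of_isAff (h : IsAff c p)
    (hN : (N : Ω) ≠ 0) (q : ℕ) (hq : 0 < q) :
    Subsingleton (EtCoh.H X (EtCoh.const X (ZMod N)) q) := by
  have hu : IsUnit (N : Γ(Spec (CommRingCat.of Ω), ⊤)) := by
    have h3 : IsUnit (N : Ω) := IsUnit.mk0 _ hN
    have h4 := h3.map (Scheme.ΓSpecIso (CommRingCat.of Ω)).inv.hom
    rwa [map_natCast] at h4
  have h1 : PreservesFiniteLimits (EtCoh.pull p) := Groth.Agent.S0101.result _
  have h2 := (h.acyc hu).Hpull_bijective (EtCoh.const _ (ZMod N))
    (Etrest.ConstBasic.killedBy_const _ (ZMod N) N (fun m => by simp)) q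
  have h3 := Etrest.SHPoint.subsingleton_H_of_sepClosed Ω (EtCoh.const _ (ZMod N)) q hq
  exact HTools.subsingleton_H_of_iso (EtCore.pullConst p (ZMod N)) q h2.2.subsingleton

omit [IsSepClosed Ω] in
theorem irreducibleSpace_of_isAff (h : IsAff c p) :
    IrreducibleSpace X := by
  obtain ⟨e, _, _⟩ := h
  have : IrreducibleSpace ↥(𝔸(ULift.{u} (Fin c); Spec (CommRingCat.of Ω))) := inferInstance
  exact (asIso e).schemeIsoToHomeo.symm.surjective.irreducibleSpace (asIso e).schemeIsoToHomeo.symm.continuous

omit [IsSepClosed Ω] in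
/-- Affine space of positive dimension has more than one point. -/
theorem not_subsingleton (h : IsAff c p) (hc : 0 < c) : ¬ Subsingleton X := by
  intro hs
  obtain ⟨e, _, -⟩ := h
  let φ := (AffineSpace.SpecIso (ULift.{u} (Fin c)) (CommRingCat.of Ω)).hom
  have h1 : Subsingleton (PrimeSpectrum (MvPolynomial (ULift.{u} (Fin c)) Ω)) :=
    ((asIso (e ≫ φ)).schemeIsoToHomeo).symm.injective.subsingleton
  let x : MvPolynomial (ULift.{u} (Fin c)) Ω := MvPolynomial.X ⟨⟨0, hc⟩⟩
  have hx : x ∈ nonunits (MvPolynomial (ULift.{u} (Fin c)) Ω) := by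
    intro hu
    have h2 := hu.map (MvPolynomial.constantCoeff : MvPolynomial (ULift.{u} (Fin c)) Ω →+* Ω)
    rw [MvPolynomial.constantCoeff_X] at h2
    exact not_isUnit_zero h2
  obtain ⟨m, hm, hxm⟩ := exists_max_ideal_of_mem_nonunits hx
  have h3 := congrArg PrimeSpectrum.asIdeal
    (Subsingleton.elim (⟨m, hm.isPrime⟩ : PrimeSpectrum (MvPolynomial (ULift.{u} (Fin c)) Ω))
      ⟨⊥, Ideal.isPrime_bot⟩)
  change m = ⊥ at h3
  rw [h3, Ideal.mem_bot] at hxm
  exact MvPolynomial.X_ne_zero _ hxm

omit [IsSepClosed Ω] in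
/-- The complement of a rational point of affine space of positive dimension is nonempty. -/
theorem nonempty_compl (h : IsAff c p) (hc : 0 < c) (i : Spec (CommRingCat.of Ω) ⟶ X)
    (j : U ⟶ X) (hU : Set.range j = (Set.range i)ᶜ) : Nonempty U := by
  by_contra hne
  rw [not_nonempty_iff] at hne
  have h1 : Set.range i = Set.univ := by
    rw [← compl_compl (Set.range i), ← hU, Set.range_eq_empty, Set.compl_empty]
  refine not_subsingleton h hc ?_
  have h2 : Function.Surjective i := Set.range_eq_univ.1 h1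
  exact h2.subsingleton

omit [IsSepClosed Ω] in
/-- The complement of a rational point of affine space of positive dimension is irreducible. -/
theorem irreducibleSpace_compl (h : IsAff c p) (hc : 0 < c) (i : Spec (CommRingCat.of Ω) ⟶ X)
    (j : U ⟶ X) [IsOpenImmersion j] (hU : Set.range j = (Set.range i)ᶜ) : IrreducibleSpace U := by
  have h1 := irreducibleSpace_of_isAff h
  obtain ⟨x⟩ := nonempty_compl h hc i j hU
  have h2 : IsIrreducible (Set.range j) := by
    refine ⟨⟨_, x, rfl⟩, ?_⟩
    exact (PreirreducibleSpace.isPreirreducible_univ (X := X)).open_subset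
      j.isOpenEmbedding.isOpen_range (Set.subset_univ _)
  have h3 := Subtype.irreducibleSpace h2
  have e := j.isOpenEmbedding.toIsEmbedding.toHomeomorph
  exact e.symm.surjective.irreducibleSpace e.symm.continuous

/-- **Cohomology of punctured affine space** (relative to `StmtLine`). -/
theorem punct_of_stmtLine (hL : StmtLine.{u} N) (hN : (N : Ω) ≠ 0) (h : IsAff c p) (hc : 0 < c)
    (i : Spec (CommRingCat.of Ω) ⟶ X) (w : i ≫ p = 𝟙 _) (j : U ⟶ X) [IsOpenImmersion j]
    (hU : Set.range j = (Set.range i)ᶜ) :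
    (∀ q : ℕ, q ≠ 0 → q ≠ 2 * c - 1 → Subsingleton (EtCoh.H U (EtCoh.const U (ZMod N)) q)) ∧
      Nonempty (EtCoh.H U (EtCoh.const U (ZMod N)) (2 * c - 1) ≃+ ZMod N) ∧
      Nonempty (EtCoh.H U (EtCoh.const U (ZMod N)) 0 ≃+ ZMod N) := by
  have h1 := h.isAffineHom
  have h2 : IsClosedImmersion (i ≫ p) := by rw [w]; infer_instance
  have h3 : IsClosedImmersion i := IsClosedImmersion.of_comp i p
  have h4 := smoothOfRelativeDimension_of_isAff h
  have h5 := irreducibleSpace_compl h hc i j hU
  obtain ⟨h6, h7⟩ := gysin p i w c j hc hL hN hU (subsingleton_H_of_isAff h hN)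
  exact ⟨h6, h7, Etrest.SHPoint.nonempty_H0_const U (ZMod N)⟩

end

end Groth.Agent.Vancyc.H263.PunctAff
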